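/-
`Y`-minimal groups (`Cfsg.IsMinimalOver Y`): the maximal subgroup over `Y`.
* `normalizer_eq_self`, `sup_conj_eq_top`, `exists_sylow_eq`, `le_normalCore_or_contains`.
-/
import Cfsg.Agent.Lib.WeaklyClosed.Basic

namespace Cfsg.Agent.YMinimal

open Subgroup Cfsg.Agent.WeaklyClosed

variable {L : Type*} [Group L] [Finite L] {p : ℕ}

theorem isCoatom_cj {M : Subgroup L} (hM : IsCoatom M) (g : L) : IsCoatom (cj g M) :=
  (OrderIso.isCoatom_iff (MulAut.conj g).mapSubgroup M).2 hM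

theorem eq_of_le {Y L₀ M : Subgroup L} (hmin : Cfsg.IsMinimalOver Y) (hL₀ : IsCoatom L₀)
    (hY : Y ≤ L₀) (hM : IsCoatom M) (hYM : Y ≤ M) : M = L₀ :=
  hmin.2.unique ⟨hM, hYM⟩ ⟨hL₀, hY⟩

theorem normalizer_eq_self {Y L₀ : Subgroup L} (hmin : Cfsg.IsMinimalOver Y) (hL₀ : IsCoatom L₀)
    (hY : Y ≤ L₀) : normalizer (L₀ : Set L) = L₀ := by
  refine le_antisymm ?_ le_normalizer
  by_contra h
  have h1 : normalizer (L₀ : Set L) = ⊤ := hL₀.2 _ (lt_of_le_not_ge le_normalizer h)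
  haveI : L₀.Normal := normalizer_eq_top_iff.1 h1
  exact hL₀.1 (top_le_iff.1 (hmin.1 ▸ normalClosure_le_normal hY))

theorem mem_of_cj_le {Y L₀ : Subgroup L} (hmin : Cfsg.IsMinimalOver Y) (hL₀ : IsCoatom L₀)
    (hY : Y ≤ L₀) {g : L} (hg : cj g Y ≤ L₀) : g ∈ L₀ := by
  rw [← normalizer_eq_self hmin hL₀ hY, ← cj_eq_self_iff]
  have h1 : cj g⁻¹ L₀ = L₀ := eq_of_le hmin hL₀ hY (isCoatom_cj hL₀ _) (by
    have := cj_mono g⁻¹ hg
    rwa [← cj_mul, inv_mul_cancel, cj_one] at this)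
  calc cj g L₀ = cj g (cj g⁻¹ L₀) := by rw [h1]
    _ = L₀ := by rw [← cj_mul, mul_inv_cancel, cj_one]

theorem eq_top_or_le {Y L₀ : Subgroup L} (hmin : Cfsg.IsMinimalOver Y) (hL₀ : IsCoatom L₀)
    (hY : Y ≤ L₀) {X : Subgroup L} (hX : Y ≤ X) : X = ⊤ ∨ X ≤ L₀ := by
  rcases eq_top_or_exists_le_coatom X with h | ⟨M, hM, hXM⟩
  · exact Or.inl h
  · exact Or.inr (eq_of_le hmin hL₀ hY hM (hX.trans hXM) ▸ hXM)

theorem sup_conj_eq_top {Y L₀ : Subgroup L} (hmin : Cfsg.IsMinimalOver Y) (hL₀ : IsCoatom L₀)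
    (hY : Y ≤ L₀) {g : L} (hg : g ∉ L₀) : Y ⊔ cj g Y = ⊤ :=
  (eq_top_or_le hmin hL₀ hY le_sup_left).resolve_right fun h =>
    hg (mem_of_cj_le hmin hL₀ hY (le_sup_right.trans h))

theorem normalizer_sylow_le {Y L₀ : Subgroup L} (hmin : Cfsg.IsMinimalOver Y) (hL₀ : IsCoatom L₀)
    {T : Subgroup L} (hT : T ≤ L₀) (hYT : Y ≤ T) : normalizer (T : Set L) ≤ L₀ := fun g hg =>
  mem_of_cj_le hmin hL₀ (hYT.trans hT) (((cj_mono g hYT).trans (cj_of_mem hg).le).trans hT)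

/-- A Sylow subgroup of `L₀` over `Y` is a Sylow subgroup of `L`. -/
theorem exists_sylow_eq [Fact p.Prime] {Y L₀ : Subgroup L} (hmin : Cfsg.IsMinimalOver Y)
    (hL₀ : IsCoatom L₀) (T : Sylow p ↥L₀) (hYT : Y ≤ (T : Subgroup ↥L₀).map L₀.subtype) :
    ∃ P : Sylow p L, (P : Subgroup L) = (T : Subgroup ↥L₀).map L₀.subtype := by
  set T₀ := (T : Subgroup ↥L₀).map L₀.subtype with hT₀
  obtain ⟨P, hP⟩ := (T.2.map L₀.subtype).exists_le_sylow
  refine ⟨P, le_antisymm ?_ hP⟩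
  by_contra h
  have hlt : T₀.subgroupOf (P : Subgroup L) < normalizer
      ((T₀.subgroupOf (P : Subgroup L) : Subgroup ↥(P : Subgroup L)) : Set ↥(P : Subgroup L)) := by
    haveI := P.2.isNilpotent
    exact normalizerCondition_of_isNilpotent _ (lt_of_le_of_ne le_top fun h' => h (subgroupOf_eq_top.1 h'))
  obtain ⟨t, ht, htT⟩ := SetLike.exists_of_lt hlt
  have htN : (t : L) ∈ normalizer (T₀ : Set L) := by
    rw [← cj_eq_self_iff]
    ext x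
    constructor
    · rintro ⟨y, hy, rfl⟩
      exact (mem_normalizer_iff.1 ht ⟨y, hP hy⟩).1 hy
    · intro hx
      rw [mem_cj]
      have := (mem_normalizer_iff.1 (inv_mem ht) ⟨x, hP hx⟩).1 hx
      simpa [mem_subgroupOf] using this
  have htL : (t : L) ∈ L₀ := normalizer_sylow_le hmin hL₀ (map_subtype_le _) hYT htN
  have h1 : (P : Subgroup L).subgroupOf L₀ = T :=
    T.3 (IsPGroup.comap_subtype P.2) fun x hx => hP (mem_map_of_mem _ hx)
  exact htT ⟨⟨t, htL⟩, h1 ▸ t.2, rfl⟩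

end Cfsg.Agent.YMinimal
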